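import Groth.Agent.Alg6.LocLoc
import Groth.Agent.LC.DepthLoc
import Groth.Agent.LC.ExtDim
import Groth.Agent.VarDim.Basic
import Groth.Agent.S14435
import Mathlib.RingTheory.Localization.Integral
import Mathlib.RingTheory.Localization.Module
import Mathlib.RingTheory.Ideal.Height

/-!
# Serre's conditions descend along a finite going-down extension with a linear retraction
-/

universe u

open IsLocalRing RingTheory.Sequence

namespace Groth.Agent.FinQuotLib

section Summand

variable {A : Type u} [CommRing A] {M N : Type u} [AddCommGroup M] [Module A M] [AddCommGroup N] [Module A N]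
  (ι : N →ₗ[A] M) (π : M →ₗ[A] N) (hπ : π ∘ₗ ι = LinearMap.id)

include hπ

theorem isWeaklyRegular_of_summand {rs : List A} (h : IsWeaklyRegular M rs) : IsWeaklyRegular N rs := by
  have hπ' : ∀ x, π (ι x) = x := fun x => LinearMap.congr_fun hπ x
  refine (isWeaklyRegular_iff N rs).mpr fun i hi => ?_
  have hM := (isWeaklyRegular_iff M rs).mp h i hi
  have hmapι : ∀ (J : Ideal A), ∀ x ∈ J • (⊤ : Submodule A N), ι x ∈ J • (⊤ : Submodule A M) := fun J x hx =>
    ((Submodule.map_smul'' J ⊤ ι).le.trans (Submodule.smul_mono le_rfl le_top)) (Submodule.mem_map_of_mem hx)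
  have hmapπ : ∀ (J : Ideal A), ∀ x ∈ J • (⊤ : Submodule A M), π x ∈ J • (⊤ : Submodule A N) := fun J x hx =>
    ((Submodule.map_smul'' J ⊤ π).le.trans (Submodule.smul_mono le_rfl le_top)) (Submodule.mem_map_of_mem hx)
  rw [isSMulRegular_iff_right_eq_zero_of_smul] at hM ⊢
  intro x hx
  induction x using Submodule.Quotient.induction_on with
  | H x =>
    rw [← Submodule.Quotient.mk_smul, Submodule.Quotient.mk_eq_zero] at hx
    have h1 : rs[i] • ι x ∈ Ideal.ofList (rs.take i) • (⊤ : Submodule A M) := by
      rw [← map_smul]; exact hmapι _ _ hx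
    have h2 := hM (Submodule.Quotient.mk (ι x)) (by
      rw [← Submodule.Quotient.mk_smul, Submodule.Quotient.mk_eq_zero]; exact h1)
    rw [Submodule.Quotient.mk_eq_zero] at h2 ⊢
    rw [← hπ' x]
    exact hmapπ _ _ h2

theorem idealDepth_le_of_summand (I : Ideal A) : LocCoh.idealDepth I M ≤ LocCoh.idealDepth I N := by
  unfold LocCoh.idealDepth
  by_cases hN : I • (⊤ : Submodule A N) = ⊤
  · rw [if_pos hN]; exact le_top
  have hM : ¬ I • (⊤ : Submodule A M) = ⊤ := fun h => hN <| by
    have hs : Function.Surjective π := fun x => ⟨ι x, LinearMap.congr_fun hπ x⟩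
    have h1 := congrArg (Submodule.map π) h
    rwa [Submodule.map_smul'', Submodule.map_top, LinearMap.range_eq_top.mpr hs] at h1
  rw [if_neg hN, if_neg hM]
  exact iSup₂_le fun rs hrs => le_iSup₂_of_le rs ⟨isWeaklyRegular_of_summand ι π hπ hrs.1, hrs.2⟩ le_rfl

end Summand

variable (A R : Type u) [CommRing A] [CommRing R] [Algebra A R] [IsNoetherianRing A] [Module.Finite A R]
  [Algebra.HasGoingDown A R] (π : R →ₗ[A] A) (hπ : ∀ a : A, π (algebraMap A R a) = a)

include hπ

set_option maxHeartbeats 800000 in
/-- The key inequality at a prime of the base. -/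
theorem min_le_depth (r : ℕ) (hR : LocCoh.HasSk r R R) (p : Ideal A) [p.IsPrime] :
    min (r : WithBot ℕ∞) (ringKrullDim (Localization.AtPrime p)) ≤
        ((LocCoh.depth (Localization.AtPrime p) (LocalizedModule p.primeCompl R) : ℕ∞) : WithBot ℕ∞) ∧
      Module.supportDim (Localization.AtPrime p) (LocalizedModule p.primeCompl R) =
        ringKrullDim (Localization.AtPrime p) ∧
      LocCoh.depth (Localization.AtPrime p) (LocalizedModule p.primeCompl R) ≤
        LocCoh.depth (Localization.AtPrime p) (LocalizedModule p.primeCompl A) := by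
  let S := Algebra.algebraMapSubmonoid R p.primeCompl
  let Ap := Localization.AtPrime p
  let C := Localization S
  haveI : IsNoetherianRing R := IsNoetherianRing.of_finite A R
  letI : Algebra Ap C := localizationAlgebra p.primeCompl R
  haveI : IsScalarTower A Ap C := IsScalarTower.of_algebraMap_eq' (IsLocalization.map_comp _).symm
  haveI : IsLocalizedModule p.primeCompl (IsScalarTower.toAlgHom A R C).toLinearMap :=
    isLocalizedModule_iff_isLocalization.mpr inferInstance
  haveI : Module.Finite Ap C := Module.Finite.of_isLocalizedModule p.primeCompl (IsScalarTower.toAlgHom A R C).toLinearMap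
  have hdepth : LocCoh.depth Ap C = LocCoh.depth Ap (LocalizedModule p.primeCompl R) :=
    Alg6.depth_localized_eq p Ap (IsScalarTower.toAlgHom A R C).toLinearMap
  let ι := LocalizedModule.map p.primeCompl (Algebra.linearMap A R)
  let π' := LocalizedModule.map p.primeCompl π
  have hπ' : π' ∘ₗ ι = LinearMap.id := by
    refine LinearMap.ext fun x => ?_
    induction x using LocalizedModule.induction_on with
    | h m s => simp [ι, π', LocalizedModule.map_mk, hπ]
  refine ⟨?_, ?_, ?_⟩
  · rw [← hdepth, LocCoh.depth, S14435.result (A := Ap) (B := C) _ le_rfl C, LC.idealDepth_eq_iInf_depth]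
    have key : ∀ (Q : PrimeSpectrum C), (maximalIdeal Ap).map (algebraMap Ap C) ≤ Q.asIdeal →
        min (r : WithBot ℕ∞) (ringKrullDim Ap) ≤
          ((LocCoh.depth (Localization.AtPrime Q.asIdeal) (LocalizedModule Q.asIdeal.primeCompl C) : ℕ∞) : WithBot ℕ∞) := by
      intro Q hQ
      let q := Q.asIdeal.comap (algebraMap R C)
      have hqp : q.comap (algebraMap A R) = p := by
        ext a
        show algebraMap R C (algebraMap A R a) ∈ Q.asIdeal ↔ a ∈ p
        rw [← IsScalarTower.algebraMap_apply A R C, IsScalarTower.algebraMap_apply A Ap C]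
        refine ⟨fun ha => ?_, fun ha => hQ (Ideal.mem_map_of_mem _ ((IsLocalization.AtPrime.to_map_mem_maximal_iff Ap p a).mpr ha))⟩
        by_contra hna
        exact Q.isPrime.ne_top (Ideal.eq_top_of_isUnit_mem _ ha
          ((IsLocalization.map_units Ap (⟨a, hna⟩ : p.primeCompl)).map _))
      have hd : LocCoh.depth (Localization.AtPrime Q.asIdeal) (LocalizedModule Q.asIdeal.primeCompl C) =
          LocCoh.depth (Localization.AtPrime q) (LocalizedModule q.primeCompl R) :=
        Alg6.depth_locLoc S R Q.asIdeal
      rw [hd]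
      refine le_trans (le_of_eq ?_) (hR q)
      congr 1
      rw [show Module.supportDim (Localization.AtPrime q) (LocalizedModule q.primeCompl R) =
        ringKrullDim (Localization.AtPrime q) from Module.supportDim_self_eq_ringKrullDim _,
        IsLocalization.AtPrime.ringKrullDim_eq_height p, IsLocalization.AtPrime.ringKrullDim_eq_height q]
      have h := VarDim.height_comap (R := A) (⟨q, inferInstance⟩ : PrimeSpectrum R)
      rw [← PrimeSpectrum.height_eq_orderHeight, ← PrimeSpectrum.height_eq_orderHeight] at h
      rw [← h]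
      show _ = ((q.comap (algebraMap A R)).height : WithBot ℕ∞)
      rw [hqp]
    rcases le_total (r : WithBot ℕ∞) (ringKrullDim Ap) with hle | hle
    · rw [min_eq_left hle]
      refine WithBot.coe_le_coe.mpr (le_iInf₂ fun Q hQ => ?_)
      have h := key Q hQ
      rw [min_eq_left hle] at h
      exact WithBot.coe_le_coe.mp h
    · rw [min_eq_right hle]
      obtain ⟨n, hn⟩ := WithBot.ne_bot_iff_exists.mp (show ringKrullDim Ap ≠ ⊥ from ringKrullDim_ne_bot)
      rw [← hn]
      refine WithBot.coe_le_coe.mpr (le_iInf₂ fun Q hQ => WithBot.coe_le_coe.mp ?_)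
      have h := key Q hQ
      rw [min_eq_right hle, ← hn] at h
      exact h
  · refine le_antisymm (Module.supportDim_le_ringKrullDim _ _) ?_
    have h1 : Function.Injective ι := fun x y hxy => by
      have := congrArg π' hxy
      simpa only [← LinearMap.comp_apply, hπ', LinearMap.id_apply] using this
    refine le_of_eq_of_le ?_ (Module.supportDim_le_of_injective ι h1)
    exact (show Module.supportDim Ap (LocalizedModule p.primeCompl A) = ringKrullDim Ap from
      Module.supportDim_self_eq_ringKrullDim _).symm
  · exact idealDepth_le_of_summand ι π' hπ' _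

theorem hasSk_restrictScalars (r : ℕ) (hR : LocCoh.HasSk r R R) : LocCoh.HasSk r A R ∧ LocCoh.HasSk r A A := by
  constructor
  · intro p _
    obtain ⟨h1, h2, -⟩ := min_le_depth A R π hπ r hR p
    rwa [h2]
  · intro p _
    obtain ⟨h1, -, h3⟩ := min_le_depth A R π hπ r hR p
    refine le_trans (le_of_eq ?_) (h1.trans (WithBot.coe_le_coe.mpr h3))
    congr 1
    exact Module.supportDim_self_eq_ringKrullDim _

theorem isCM_restrictScalars (hR : LocCoh.IsCohenMacaulayRing R) :
    LocCoh.IsCohenMacaulayRing A ∧ ∀ (p : Ideal A) [p.IsPrime],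
      LocCoh.IsCohenMacaulayModule (Localization.AtPrime p) (LocalizedModule p.primeCompl R) ∧
        Module.supportDim (Localization.AtPrime p) (LocalizedModule p.primeCompl R) =
          ringKrullDim (Localization.AtPrime p) := by
  have hsk : ∀ r, LocCoh.HasSk r R R := fun r q _ => by
    haveI := hR.isCohenMacaulayLocalRing_localization q
    exact (min_le_right _ _).trans (le_of_eq (LocCoh.IsCohenMacaulayLocalRing.supportDim_eq_depth (R := Localization.AtPrime q)))
  have main : ∀ (p : Ideal A) [p.IsPrime],
      ringKrullDim (Localization.AtPrime p) ≤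
        ((LocCoh.depth (Localization.AtPrime p) (LocalizedModule p.primeCompl R) : ℕ∞) : WithBot ℕ∞) := by
    intro p _
    obtain ⟨d, hd'⟩ := ENat.ne_top_iff_exists.mp (Ideal.height_ne_top (I := p) (Ideal.IsPrime.ne_top inferInstance))
    have hd : ringKrullDim (Localization.AtPrime p) = (d : WithBot ℕ∞) := by
      rw [IsLocalization.AtPrime.ringKrullDim_eq_height p, ← hd']
      rfl
    have h := (min_le_depth A R π hπ d (hsk d) p).1
    rwa [hd, min_self, ← hd] at h
  refine ⟨{ isCohenMacaulayLocalRing_localization := fun p _ => ?_ }, fun p _ => ?_⟩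
  · refine { supportDim_eq_depth := le_antisymm ?_ (LC.depth_le_supportDim _) }
    obtain ⟨-, -, h3⟩ := min_le_depth A R π hπ 0 (hsk 0) p
    rw [Module.supportDim_self_eq_ringKrullDim]
    exact (main p).trans (WithBot.coe_le_coe.mpr h3)
  · obtain ⟨-, h2, -⟩ := min_le_depth A R π hπ 0 (hsk 0) p
    haveI : Nontrivial (LocalizedModule p.primeCompl R) := by
      rw [← Module.supportDim_ne_bot_iff_nontrivial (R := Localization.AtPrime p), h2]
      exact ringKrullDim_ne_bot
    exact ⟨le_antisymm (h2.le.trans (main p)) (LC.depth_le_supportDim _), h2⟩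

end Groth.Agent.FinQuotLib
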