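import Groth.Agent.ComodLib.Antipode
import Groth.Prelude.Def_GLin
import Mathlib.LinearAlgebra.Charpoly.ToMatrix
import Mathlib.LinearAlgebra.Determinant
import Mathlib.RingTheory.HopfAlgebra.TensorProduct
import Mathlib.RingTheory.TensorProduct.Free
import Mathlib.RingTheory.Flat.Basic
import Mathlib.RingTheory.Ideal.GoingDown
import Mathlib.RingTheory.Ideal.GoingUp
import Mathlib.RingTheory.Artinian.Module
import Mathlib.RingTheory.Spectrum.Maximal.Basic

/-!
# Quotients of affine schemes by finite group schemes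

Integrality over the invariants, transitivity of the group on the fibres, and going down.
-/

universe u v w

open TensorProduct Polynomial

namespace Groth.Agent.FinQuotLib

variable {k : Type u} [Field k] (H : Type v) [CommRing H] [HopfAlgebra k H] [Module.Finite k H]

/-- The characteristic polynomial of multiplication on `R ⊗ H` over `R`. -/
noncomputable def cp (k : Type u) [Field k] {H : Type v} [CommRing H] [Algebra k H] [Module.Finite k H]
    {R : Type w} [CommRing R] [Algebra k R] (z : R ⊗[k] H) : R[X] :=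
  (Algebra.lmul R (R ⊗[k] H) z).charpoly

variable {H}

theorem cp_map {R : Type w} {R' : Type*} [CommRing R] [Algebra k R] [CommRing R'] [Algebra k R'] (f : R →ₐ[k] R')
    (z : R ⊗[k] H) : cp k (Algebra.TensorProduct.map f (AlgHom.id k H) z) = (cp k z).map f.toRingHom := by
  classical
  let b := Module.finBasis k H
  let bR := Algebra.TensorProduct.basis R b
  let bR' := Algebra.TensorProduct.basis R' b
  rw [cp, cp, ← LinearMap.charpoly_toMatrix _ bR, ← LinearMap.charpoly_toMatrix _ bR', ← Matrix.charpoly_map]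
  congr 1
  ext i j
  rw [Matrix.map_apply, LinearMap.toMatrix_apply, LinearMap.toMatrix_apply]
  simp only [bR, bR', Algebra.TensorProduct.basis_apply, Algebra.coe_lmul_eq_mul, LinearMap.mul_apply']
  induction z using TensorProduct.induction_on with
  | zero => simp
  | add p q hp hq => simp only [map_add, add_mul, Finsupp.add_apply, hp, hq]
  | tmul r h =>
    simp [Algebra.TensorProduct.basis_repr_tmul, mul_comm]

theorem cp_algEquiv {R : Type w} [CommRing R] [Algebra k R] (e : (R ⊗[k] H) ≃ₐ[R] (R ⊗[k] H)) (z : R ⊗[k] H) :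
    cp k (e z) = cp k z := by
  rw [cp, cp, ← LinearEquiv.charpoly_conj e.toLinearEquiv (Algebra.lmul R (R ⊗[k] H) z)]
  congr 1
  refine LinearMap.ext fun x => ?_
  simp [LinearEquiv.conj_apply]

theorem aeval_cp {R : Type w} [CommRing R] [Algebra k R] (z : R ⊗[k] H) : aeval z (cp k z) = 0 := by
  have h := LinearMap.aeval_self_charpoly (Algebra.lmul R (R ⊗[k] H) z)
  rw [Polynomial.aeval_algHom_apply] at h
  simpa [cp] using LinearMap.congr_fun h 1

variable {R : Type w} [CommRing R] [Algebra k R] [HopfRep.Comod k H R] [GLin.IsCoactAlg k H R]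

variable (k H R) in
/-- `(b ⊗ h) ↦ b · (1 ⊗ h₁) ⊗ h₂` on `(R ⊗ H) ⊗ H`. -/
noncomputable def shearHom : (R ⊗[k] H) ⊗[k] H →ₐ[R ⊗[k] H] (R ⊗[k] H) ⊗[k] H :=
  Algebra.TensorProduct.lift (Algebra.ofId _ _)
    ((Algebra.TensorProduct.map Algebra.TensorProduct.includeRight (AlgHom.id k H)).comp (Bialgebra.comulAlgHom k H))
    fun _ _ => .all _ _

omit [Module.Finite k H] [HopfRep.Comod k H R] [GLin.IsCoactAlg k H R] in
theorem shearHom_one_tmul (h : H) : shearHom k H R ((1 : R ⊗[k] H) ⊗ₜ[k] h) =
    Algebra.TensorProduct.map Algebra.TensorProduct.includeRight (AlgHom.id k H) (Coalgebra.comul (R := k) h) := by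
  simp [shearHom, ← Algebra.TensorProduct.one_def]

omit [HopfRep.Comod k H R] [GLin.IsCoactAlg k H R] in
theorem shearHom_bijective : Function.Bijective (shearHom k H R) := by
  have hs : Function.Surjective (shearHom k H R).toLinearMap := by
    intro y
    induction y using TensorProduct.induction_on with
    | zero => exact ⟨0, map_zero _⟩
    | add p q hp hq =>
      obtain ⟨a, rfl⟩ := hp
      obtain ⟨b, rfl⟩ := hq
      exact ⟨a + b, map_add _ _ _⟩
    | tmul b h =>
      let Ψ : H ⊗[k] H →ₗ[k] (R ⊗[k] H) ⊗[k] H := TensorProduct.map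
        ((TensorProduct.mk k R H 1) ∘ₗ HopfAlgebra.antipode k) LinearMap.id
      refine ⟨b • Ψ (Coalgebra.comul (R := k) h), ?_⟩
      rw [map_smul, show b ⊗ₜ[k] h = b • ((1 : R ⊗[k] H) ⊗ₜ[k] h) by rw [TensorProduct.smul_tmul', smul_eq_mul, mul_one]]
      congr 1
      let G : H ⊗[k] (H ⊗[k] H) →ₗ[k] (R ⊗[k] H) ⊗[k] H :=
        TensorProduct.map ((TensorProduct.mk k R H 1) ∘ₗ LinearMap.mul' k H) LinearMap.id ∘ₗ
          (TensorProduct.assoc k H H H).symm.toLinearMap ∘ₗ (HopfAlgebra.antipode k).rTensor (H ⊗[k] H)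
      have key : ∀ z : H ⊗[k] H, (shearHom k H R).toLinearMap (Ψ z) = G ((Coalgebra.comul (R := k)).lTensor H z) := by
        intro z
        induction z using TensorProduct.induction_on with
        | zero => simp
        | add p q hp hq => simp only [map_add, hp, hq]
        | tmul p q =>
          rw [LinearMap.lTensor_tmul, show Ψ (p ⊗ₜ[k] q) = ((1 : R) ⊗ₜ[k] HopfAlgebra.antipode k p) • ((1 : R ⊗[k] H) ⊗ₜ[k] q) by
            simp [Ψ, TensorProduct.smul_tmul'], map_smul, AlgHom.toLinearMap_apply, shearHom_one_tmul]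
          induction Coalgebra.comul (R := k) q using TensorProduct.induction_on with
          | zero => simp
          | tmul x y => simp [G, TensorProduct.smul_tmul']
          | add x y hx hy => simp only [map_add, TensorProduct.tmul_add, smul_add, hx, hy]
      rw [key, ← Coalgebra.coassoc_apply]
      have key2 : ∀ z : H ⊗[k] H, G (TensorProduct.assoc k H H H ((Coalgebra.comul (R := k)).rTensor H z)) =
          (1 : R ⊗[k] H) ⊗ₜ[k] TensorProduct.lid k H ((Coalgebra.counit (R := k)).rTensor H z) := by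
        intro z
        induction z using TensorProduct.induction_on with
        | zero => simp
        | add p q hp hq => simp only [map_add, TensorProduct.tmul_add, hp, hq]
        | tmul p q =>
          rw [LinearMap.rTensor_tmul, LinearMap.rTensor_tmul, TensorProduct.lid_tmul,
            show (1 : R ⊗[k] H) ⊗ₜ[k] (Coalgebra.counit (R := k) p • q) =
              ((1 : R) ⊗ₜ[k] (algebraMap k H (Coalgebra.counit (R := k) p))) ⊗ₜ[k] q by
            rw [Algebra.algebraMap_eq_smul_one, TensorProduct.tmul_smul, TensorProduct.tmul_smul,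
              TensorProduct.smul_tmul', Algebra.TensorProduct.one_def],
            ← HopfAlgebra.mul_antipode_rTensor_comul_apply (R := k) p]
          induction Coalgebra.comul (R := k) p using TensorProduct.induction_on with
          | zero => simp
          | tmul x y => simp [G]
          | add x y hx hy => simp only [map_add, TensorProduct.add_tmul, TensorProduct.tmul_add, hx, hy]
      rw [key2, Coalgebra.rTensor_counit_comul, TensorProduct.lid_tmul, one_smul]
  exact ⟨OrzechProperty.injective_of_surjective_endomorphism (shearHom k H R).toLinearMap hs, hs⟩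

theorem coact_coact (f : R) :
    Algebra.TensorProduct.map (GLin.coactAlgHom k H R) (AlgHom.id k H) (GLin.coactAlgHom k H R f) =
      shearHom k H R (Algebra.TensorProduct.map (Algebra.TensorProduct.includeLeft : R →ₐ[k] R ⊗[k] H) (AlgHom.id k H)
        (GLin.coactAlgHom k H R f)) := by
  have hc := LinearMap.congr_fun (HopfRep.Comod.coassoc (k := k) (A := H) (V := R)) f
  simp only [LinearMap.comp_apply, LinearEquiv.coe_coe] at hc
  have h1 : ∀ z : R ⊗[k] H, Algebra.TensorProduct.map (GLin.coactAlgHom k H R) (AlgHom.id k H) z =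
      (HopfRep.Comod.coact (k := k) (A := H)).rTensor H z := fun z => by
    induction z using TensorProduct.induction_on with
    | zero => simp
    | tmul p q => simp [GLin.coactAlgHom_apply]
    | add p q hp hq => simp only [map_add, hp, hq]
  have h2 : ∀ z : R ⊗[k] H, shearHom k H R (Algebra.TensorProduct.map
      (Algebra.TensorProduct.includeLeft : R →ₐ[k] R ⊗[k] H) (AlgHom.id k H) z) =
      (TensorProduct.assoc k R H H).symm ((CoalgebraStruct.comul (R := k)).lTensor R z) := fun z => by
    induction z using TensorProduct.induction_on with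
    | zero => simp
    | add p q hp hq => simp only [map_add, hp, hq]
    | tmul p q =>
      rw [LinearMap.lTensor_tmul, Algebra.TensorProduct.map_tmul, Algebra.TensorProduct.includeLeft_apply,
        AlgHom.id_apply, show ((p ⊗ₜ[k] (1 : H)) ⊗ₜ[k] q) = (p ⊗ₜ[k] (1 : H)) • ((1 : R ⊗[k] H) ⊗ₜ[k] q) by
          rw [TensorProduct.smul_tmul', smul_eq_mul, mul_one], map_smul, shearHom_one_tmul]
      induction CoalgebraStruct.comul (R := k) q using TensorProduct.induction_on with
      | zero => simp
      | tmul x y => simp [TensorProduct.smul_tmul']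
      | add x y hx hy => simp only [map_add, TensorProduct.tmul_add, smul_add, hx, hy]
  rw [h1, h2, GLin.coactAlgHom_apply, ← hc, LinearEquiv.symm_apply_apply]

/-- The coefficients of the characteristic polynomial of an orbit map are invariant. -/
theorem coeff_cp_coact_mem (f : R) (i : ℕ) :
    (cp k (GLin.coactAlgHom k H R f)).coeff i ∈ GLin.invariants k H R := by
  let ι : R →ₐ[k] R ⊗[k] H := Algebra.TensorProduct.includeLeft
  have h : (cp k (GLin.coactAlgHom k H R f)).map (GLin.coactAlgHom k H R).toRingHom =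
      (cp k (GLin.coactAlgHom k H R f)).map ι.toRingHom := by
    rw [← cp_map, ← cp_map, coact_coact]
    exact cp_algEquiv (AlgEquiv.ofBijective (shearHom k H R) shearHom_bijective) _
  have h2 := congrArg (fun P => Polynomial.coeff P i) h
  simp only [Polynomial.coeff_map] at h2
  exact (GLin.mem_invariants_iff k H R _).mpr h2

omit [GLin.IsCoactAlg k H R] in
theorem counit_eval (f : R) :
    Algebra.TensorProduct.lift (AlgHom.id R R) ((Algebra.ofId k R).comp (Bialgebra.counitAlgHom k H))
      (fun _ _ => .all _ _) (HopfRep.Comod.coact (k := k) (A := H) f) = f := by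
  have h2 := congrArg (TensorProduct.rid k R) (LinearMap.congr_fun (HopfRep.Comod.counit_comp (k := k) (A := H) (V := R)) f)
  simp only [LinearMap.comp_apply, LinearMap.flip_apply, TensorProduct.mk_apply, TensorProduct.rid_tmul, one_smul] at h2
  refine Eq.trans ?_ h2
  induction HopfRep.Comod.coact (k := k) (A := H) f using TensorProduct.induction_on with
  | zero => simp
  | tmul p q => simp [Algebra.smul_def, mul_comm]
  | add p q hp hq => simp only [map_add, hp, hq]

theorem eval_cp_coact (f : R) : (cp k (GLin.coactAlgHom k H R f)).eval f = 0 := by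
  let ev : R ⊗[k] H →ₐ[R] R := Algebra.TensorProduct.lift (AlgHom.id R R)
    ((Algebra.ofId k R).comp (Bialgebra.counitAlgHom k H)) fun _ _ => .all _ _
  have h := congrArg ev (aeval_cp (k := k) (GLin.coactAlgHom k H R f))
  rw [← Polynomial.aeval_algHom_apply, map_zero, GLin.coactAlgHom_apply, counit_eval, ← GLin.coactAlgHom_apply] at h
  rwa [Polynomial.coe_aeval_eq_eval] at h

theorem isIntegral_invariants : Algebra.IsIntegral (GLin.invariants k H R) R := by
  refine ⟨fun f => ?_⟩
  have hl : cp k (GLin.coactAlgHom k H R f) ∈ Polynomial.lifts (GLin.invariants k H R).val.toRingHom :=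
    (Polynomial.lifts_iff_coeff_lifts _).mpr fun i => ⟨⟨_, coeff_cp_coact_mem f i⟩, rfl⟩
  rcases subsingleton_or_nontrivial R with hR | hR
  · exact ⟨X, monic_X, Subsingleton.elim _ _⟩
  obtain ⟨q, hq, -, hqm⟩ := Polynomial.lifts_and_degree_eq_and_monic hl (LinearMap.charpoly_monic _)
  exact ⟨q, hqm, by rw [← Polynomial.eval_map]; exact (congrArg (Polynomial.eval f) hq).trans (eval_cp_coact f)⟩

/-- The group acts transitively on the fibres of the quotient map. -/
theorem exists_maximal_of_comap_eq {q q' : Ideal R} [q.IsPrime] [q'.IsPrime]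
    (h : q.comap (GLin.invariants k H R).val = q'.comap (GLin.invariants k H R).val) :
    ∃ M : Ideal (q.ResidueField ⊗[k] H), M.IsMaximal ∧
      M.comap ((Algebra.TensorProduct.map (IsScalarTower.toAlgHom k R q.ResidueField) (AlgHom.id k H)).comp
        (GLin.coactAlgHom k H R)) = q' := by
  classical
  let K := q.ResidueField
  let φ : R →ₐ[k] K := IsScalarTower.toAlgHom k R K
  let Φ : R ⊗[k] H →ₐ[k] K ⊗[k] H := Algebra.TensorProduct.map φ (AlgHom.id k H)
  let ψ := Φ.comp (GLin.coactAlgHom k H R)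
  haveI : IsArtinianRing (K ⊗[k] H) := IsArtinianRing.of_finite K _
  haveI := isIntegral_invariants (k := k) (H := H) (R := R)
  have hover : ∀ M : Ideal (K ⊗[k] H), M.IsMaximal →
      (M.comap ψ).comap (GLin.invariants k H R).val = q.comap (GLin.invariants k H R).val := by
    intro M hM
    ext a
    simp only [Ideal.mem_comap]
    show Φ (GLin.coactAlgHom k H R (a : R)) ∈ M ↔ (a : R) ∈ q
    rw [GLin.coactAlgHom_apply, (GLin.mem_invariants_iff k H R _).mp a.2]
    show φ (a : R) ⊗ₜ[k] (1 : H) ∈ M ↔ _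
    have e : φ (a : R) ⊗ₜ[k] (1 : H) = algebraMap K (K ⊗[k] H) (φ (a : R)) := rfl
    rw [e]
    refine ⟨fun ha => ?_, fun ha => ?_⟩
    · by_contra hna
      refine hM.ne_top (Ideal.eq_top_of_isUnit_mem _ ha ((Ne.isUnit ?_).map _))
      exact fun h0 => hna (Ideal.algebraMap_residueField_eq_zero.mp h0)
    · rw [show φ (a : R) = 0 from Ideal.algebraMap_residueField_eq_zero.mpr ha, map_zero]
      exact M.zero_mem
  by_contra hcon
  push Not at hcon
  let S : Finset (MaximalSpectrum (K ⊗[k] H)) := (Set.finite_univ (α := MaximalSpectrum (K ⊗[k] H))).toFinset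
  have hnot : ¬ (q' : Set R) ⊆ ⋃ M ∈ (S : Set (MaximalSpectrum (K ⊗[k] H))), ((M.asIdeal.comap ψ : Ideal R) : Set R) := by
    rcases isEmpty_or_nonempty (MaximalSpectrum (K ⊗[k] H)) with hemp | ⟨⟨M₀⟩⟩
    · intro hsub
      obtain ⟨M, -, -⟩ := Set.mem_iUnion₂.mp (hsub q'.zero_mem)
      exact hemp.false M
    rw [Ideal.subset_union_prime (s := S) (f := fun M => M.asIdeal.comap ψ)
      M₀ M₀ fun M _ _ _ => Ideal.comap_isPrime _ _]
    rintro ⟨M, -, hM⟩
    refine hcon M.asIdeal M.isMaximal (le_antisymm ?_ hM)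
    by_contra hne
    have hlt : q' < M.asIdeal.comap ψ := lt_of_le_not_ge hM hne
    haveI : (M.asIdeal.comap ψ).IsPrime := Ideal.comap_isPrime _ _
    have h2 := Ideal.IsIntegral.comap_lt_comap (R := GLin.invariants k H R) hlt
    exact h2.ne (h.symm.trans (hover M.asIdeal M.isMaximal).symm)
  obtain ⟨f, hfq', hf⟩ := Set.not_subset.mp hnot
  let c := (cp k (GLin.coactAlgHom k H R f)).coeff 0
  have hc' : c ∈ q' := by
    have h1 := eval_cp_coact (k := k) (H := H) f
    rw [← Polynomial.divX_mul_X_add (cp k (GLin.coactAlgHom k H R f)), eval_add, eval_mul, eval_X, eval_C] at h1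
    rw [show c = -(eval f (cp k (GLin.coactAlgHom k H R f)).divX * f) from eq_neg_of_add_eq_zero_right h1]
    exact neg_mem (Ideal.mul_mem_left _ _ hfq')
  have hc : c ∈ q :=
    (SetLike.ext_iff.mp h ⟨c, coeff_cp_coact_mem f 0⟩).mpr hc'
  have hz : ¬ IsUnit (ψ f) := by
    intro hu
    have h0 : (cp k (ψ f)).coeff 0 = 0 := by
      show (cp k (Φ (GLin.coactAlgHom k H R f))).coeff 0 = 0
      rw [cp_map, Polynomial.coeff_map]
      exact Ideal.algebraMap_residueField_eq_zero.mpr hc
    have hdet : LinearMap.det (Algebra.lmul K (K ⊗[k] H) (ψ f)) = 0 := by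
      rw [LinearMap.det_eq_sign_charpoly_coeff]
      exact mul_eq_zero_of_right _ h0
    exact ((hu.map (Algebra.lmul K (K ⊗[k] H))).map (LinearMap.det : Module.End K (K ⊗[k] H) →* K)).ne_zero hdet
  obtain ⟨M, hM, hMf⟩ := exists_max_ideal_of_mem_nonunits (mem_nonunits_iff.mpr hz)
  exact hf (Set.mem_biUnion (x := (⟨M, hM⟩ : MaximalSpectrum _)) (by simp [S]) hMf)

/-- Going down for the quotient by a finite group scheme. -/
theorem hasGoingDown_invariants : Algebra.HasGoingDown (GLin.invariants k H R) R := by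
  haveI := isIntegral_invariants (k := k) (H := H) (R := R)
  refine ⟨fun {P₀} _ q₁ hq₁ hlt => ?_⟩
  haveI : Nontrivial R := ⟨⟨0, 1, fun e => hq₁.ne_top ((Ideal.eq_top_iff_one _).mpr (e ▸ q₁.zero_mem))⟩⟩
  obtain ⟨q₀, -, hq₀, hq₀P⟩ := Ideal.exists_ideal_over_prime_of_isIntegral P₀ (⊥ : Ideal R) (by
    rw [← RingHom.ker_eq_comap_bot,
      (RingHom.injective_iff_ker_eq_bot _).mp (Subtype.val_injective : Function.Injective (algebraMap (GLin.invariants k H R) R))]
    exact bot_le)
  haveI := hq₀
  obtain ⟨q₂, hle, hq₂, hq₂P⟩ := Ideal.exists_ideal_over_prime_of_isIntegral (q₁.under (GLin.invariants k H R)) q₀ (by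
    rw [hq₀P]
    exact hlt.le)
  haveI := hq₂
  obtain ⟨M, hM, hMq⟩ := exists_maximal_of_comap_eq (k := k) (H := H) (q := q₂) (q' := q₁) hq₂P
  let Φ := Algebra.TensorProduct.map (IsScalarTower.toAlgHom k R q₂.ResidueField) (AlgHom.id k H)
  let Q₁ : Ideal (R ⊗[k] H) := M.comap Φ
  haveI : Q₁.IsPrime := Ideal.comap_isPrime _ _
  have hQ₁ : Q₁.under R = q₂ := by
    ext a
    show Φ (a ⊗ₜ[k] (1 : H)) ∈ M ↔ a ∈ q₂
    rw [Algebra.TensorProduct.map_tmul, map_one]
    show algebraMap q₂.ResidueField (q₂.ResidueField ⊗[k] H) (algebraMap R _ a) ∈ M ↔ a ∈ q₂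
    refine ⟨fun ha => ?_, fun ha => ?_⟩
    · by_contra hna
      refine hM.ne_top (Ideal.eq_top_of_isUnit_mem _ ha ((Ne.isUnit ?_).map _))
      exact fun h0 => hna (Ideal.algebraMap_residueField_eq_zero.mp h0)
    · rw [Ideal.algebraMap_residueField_eq_zero.mpr ha, map_zero]
      exact M.zero_mem
  haveI : Q₁.LiesOver q₂ := ⟨hQ₁.symm⟩
  obtain ⟨Q₀, hQle, hQ₀, hQ₀q⟩ := Ideal.exists_ideal_le_liesOver_of_le (p := q₀) (q := q₂) Q₁ hle
  refine ⟨Q₀.comap (GLin.coactAlgHom k H R), le_of_le_of_eq (Ideal.comap_mono hQle) hMq, Ideal.comap_isPrime _ _, ⟨?_⟩⟩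
  ext a
  show a ∈ P₀ ↔ GLin.coactAlgHom k H R (a : R) ∈ Q₀
  rw [GLin.coactAlgHom_apply, (GLin.mem_invariants_iff k H R _).mp a.2, ← hq₀P]
  show (a : R) ∈ q₀ ↔ algebraMap R (R ⊗[k] H) (a : R) ∈ Q₀
  exact SetLike.ext_iff.mp hQ₀q.over (a : R)

end Groth.Agent.FinQuotLib
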